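import Cfsg.Agent.Lib.IsoD4.Group
import Cfsg.Agent.Lib.IsoD4.Cert

/-!
The kernel-checked certificates for the Sylow subgroups of `3D4(2)`.
-/

set_option autoImplicit false

namespace Cfsg.Agent.IsoD4

open SzEight (K8)

/-- Parent data exhibit the list inside the subgroup generated by two elements. -/
def chainOk (A B : List (List K8)) (M : List (List (List K8))) (par : List (Bool × ℕ)) : Bool :=
  (List.range M.length).all fun i =>
    (i == 0 && M.getD 0 [] == oneM) ||
      (decide ((par.getD i (true, i)).2 < i) &&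
        M.getD i [] == mulM 8 (if (par.getD i (true, i)).1 then A else B) (M.getD (par.getD i (true, i)).2 []))

/-- The elements of the Sylow 3-subgroup. -/
def sList : List (List (List K8)) := Cert.sMats.map (dec 8 8)

theorem s_gens : wordL Cert.wA = dec 8 8 (Cert.sMats.getD 1 []) ∧
    wordL Cert.wB = dec 8 8 (Cert.sMats.getD 2 []) := by
  decide +kernel

theorem s_group' : oneM ∈ sList ∧
    (∀ x ∈ sList, mulM 8 (dec 8 8 (Cert.sMats.getD 1 [])) x ∈ sList ∧
      mulM 8 (dec 8 8 (Cert.sMats.getD 2 [])) x ∈ sList) ∧ sList.Nodup ∧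
    chainOk (dec 8 8 (Cert.sMats.getD 1 [])) (dec 8 8 (Cert.sMats.getD 2 [])) sList Cert.sPar = true ∧
      sList.length = 81 := by
  decide +kernel

theorem s_group : oneM ∈ sList ∧
    (∀ x ∈ sList, mulM 8 (wordL Cert.wA) x ∈ sList ∧ mulM 8 (wordL Cert.wB) x ∈ sList) ∧ sList.Nodup ∧
    chainOk (wordL Cert.wA) (wordL Cert.wB) sList Cert.sPar = true ∧ sList.length = 81 := by
  rw [s_gens.1, s_gens.2]; exact s_group' 

/-- The condition on a listed 3-element. -/
def sOk (x : List (List K8)) (c : List ℕ × List ℕ) : Bool :=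
  let x2 := mulM 8 x x
  let y := mulM 8 x2 x
  let e := addM (addM oneM x) x2
  x == oneM ||
    if y == oneM then e == mulM 8 (dec 8 4 c.1) (dec 4 8 c.2)
    else
      let y2 := mulM 8 y y
      mulM 8 y2 y == oneM && mulM 8 e (addM (addM oneM y) y2) == zeroM

theorem s_ok : ((List.range 81).all fun i => sOk (sList.getD i []) (Cert.sCert.getD i ([], []))) = true := by
  decide +kernel

/-- The elements of the Sylow 7-subgroup. -/
def tList : List (List (List K8)) := Cert.tMats.map (dec 8 8)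

theorem t_gens : wordL Cert.wT₁ = dec 8 8 (Cert.tMats.getD 1 []) ∧
    wordL Cert.wT₂ = dec 8 8 (Cert.tMats.getD 2 []) := by
  decide +kernel

theorem t_group' : oneM ∈ tList ∧
    (∀ x ∈ tList, mulM 8 (dec 8 8 (Cert.tMats.getD 1 [])) x ∈ tList ∧
      mulM 8 (dec 8 8 (Cert.tMats.getD 2 [])) x ∈ tList) ∧ tList.Nodup ∧
    chainOk (dec 8 8 (Cert.tMats.getD 1 [])) (dec 8 8 (Cert.tMats.getD 2 [])) tList Cert.tPar = true ∧
      tList.length = 49 := by
  decide +kernel

theorem t_group : oneM ∈ tList ∧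
    (∀ x ∈ tList, mulM 8 (wordL Cert.wT₁) x ∈ tList ∧ mulM 8 (wordL Cert.wT₂) x ∈ tList) ∧ tList.Nodup ∧
    chainOk (wordL Cert.wT₁) (wordL Cert.wT₂) tList Cert.tPar = true ∧ tList.length = 49 := by
  rw [t_gens.1, t_gens.2]; exact t_group' 

/-- The diagonal of a listed 7-element. -/
def tDiag (i : ℕ) : Fin 8 → K8 := fun j => bits (Cert.tDiag.getD i 0) j

theorem pq_ok : mulM 8 (dec 8 8 Cert.matQ) (dec 8 8 Cert.matP) = oneM ∧
    mulM 8 (dec 8 8 Cert.matP) (dec 8 8 Cert.matQ) = oneM := by decide +kernel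

theorem t_diag : ((List.range 49).all fun i =>
    mulM 8 (dec 8 8 Cert.matQ) (mulM 8 (tList.getD i []) (dec 8 8 Cert.matP)) ==
      ofMat (Matrix.diagonal (tDiag i))) = true := by
  decide +kernel

theorem t_ok : ∀ i : Fin 49, (∀ j, tDiag i j ≠ 0) ∧ ((∀ j, tDiag i j = 1) ∨ (∀ j, tDiag i j ≠ 1) ∨
    ((Finset.univ.filter fun j => tDiag i j = 1).card = 2 ∧
      ∀ j l, tDiag i l ≠ 1 → tDiag i j = tDiag i l → j = l)) := by decide +kernel

theorem seventh : ∀ c : K8, c ≠ 0 → c ^ 7 = 1 := by decide +kernel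

theorem cube_one : ∀ c : K8, c * c * c = 1 → c = 1 := by decide +kernel

theorem z_ok : powM (wordL Cert.wZ) 13 = oneM ∧ wordL Cert.wZ ≠ oneM ∧
    geomM (wordL Cert.wZ) 13 = zeroM := by decide +kernel

theorem w_ok : powM (wordL Cert.w8) 8 = oneM ∧ powM (wordL Cert.w8) 4 ≠ oneM ∧
    powM (wordL Cert.w12) 12 = oneM ∧ powM (wordL Cert.w12) 6 ≠ oneM ∧
    powM (wordL Cert.w12) 4 ≠ oneM ∧ powM (wordL Cert.w28) 28 = oneM ∧
    powM (wordL Cert.w28) 14 ≠ oneM ∧ powM (wordL Cert.w28) 4 ≠ oneM := by decide +kernel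

end Cfsg.Agent.IsoD4
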