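import Cfsg.Agent.Lib.IsoD4.Check

/-!
Fixed spaces of the elements of order 3, 7, 9 and 13, from explicit Sylow subgroups.
-/

set_option autoImplicit false

namespace Cfsg.Agent.IsoD4

open SzEight (K8)
open Matrix

/-- The fixed space. -/
noncomputable def fixS (g : ↥L) : Submodule K8 (Fin 8 → K8) :=
  LinearMap.ker (mat g - 1).mulVecLin

theorem mem_fixS {g : ↥L} {v : Fin 8 → K8} : v ∈ fixS g ↔ mat g *ᵥ v = v := by
  rw [fixS, LinearMap.mem_ker, Matrix.mulVecLin_apply, Matrix.sub_mulVec, Matrix.one_mulVec,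
    sub_eq_zero]

theorem fix_pow {g : ↥L} {v : Fin 8 → K8} (h : mat g *ᵥ v = v) : ∀ n : ℕ, mat (g ^ n) *ᵥ v = v
  | 0 => by rw [pow_zero, mat_one, Matrix.one_mulVec]
  | n + 1 => by rw [pow_succ, mat_mul, ← Matrix.mulVec_mulVec, h, fix_pow h n]

theorem fixS_conj (c g : ↥L) :
    Module.finrank K8 (fixS (c * g * c⁻¹)) = Module.finrank K8 (fixS g) := by
  have key : ∀ c g : ↥L, ∀ v ∈ fixS g, mat c *ᵥ v ∈ fixS (c * g * c⁻¹) := fun c g v hv => by
    rw [mem_fixS] at hv ⊢
    rw [Matrix.mulVec_mulVec, ← mat_mul, mul_assoc (c * g), inv_mul_cancel, mul_one, mat_mul,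
      ← Matrix.mulVec_mulVec, hv]
  have hinj : ∀ c : ↥L, Function.Injective fun v => mat c *ᵥ v := fun c v w h => by
    have := congrArg (fun u => mat c⁻¹ *ᵥ u) h
    simpa [Matrix.mulVec_mulVec, ← mat_mul, mat_one] using this
  have hle : ∀ c g : ↥L, Module.finrank K8 (fixS g) ≤ Module.finrank K8 (fixS (c * g * c⁻¹)) :=
    fun c g => LinearMap.finrank_le_finrank_of_injective
      (f := (mat c).mulVecLin.restrict (key c g)) fun v w h =>
        Subtype.ext (hinj c (congrArg Subtype.val h))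
  refine le_antisymm ?_ (hle c g)
  have := hle c⁻¹ (c * g * c⁻¹)
  rwa [show c⁻¹ * (c * g * c⁻¹) * c⁻¹⁻¹ = g by group] at this

theorem fixS_conj_eq_bot (c g : ↥L) (h : fixS (c * g * c⁻¹) = ⊥) : fixS g = ⊥ := by
  rw [← Submodule.finrank_eq_zero, ← fixS_conj c g, h, finrank_bot]

theorem subgroup_of_list (a b : ↥L) (M : List (List (List K8))) (par : List (Bool × ℕ))
    {A B : List (List K8)} (hA : lmat a = A) (hB : lmat b = B)
    (h1 : oneM ∈ M) (hcl : ∀ x ∈ M, mulM 8 A x ∈ M ∧ mulM 8 B x ∈ M) (hnd : M.Nodup)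
    (hch : chainOk A B M par = true) :
    Nat.card (Subgroup.closure {a, b}) = M.length ∧
      ∀ g ∈ Subgroup.closure {a, b}, lmat g ∈ M := by
  subst hA hB
  have h2 : ∀ g ∈ Subgroup.closure {a, b}, lmat g ∈ M := by
    intro g hg
    rw [← Subgroup.mem_toSubmonoid, Subgroup.closure_toSubmonoid_of_finite] at hg
    induction hg using Submonoid.closure_induction_left with
    | one => rwa [lmat_one]
    | mul_left x hx y _ ih =>
      rw [lmat_mul]
      rcases hx with rfl | hx
      · exact (hcl _ ih).1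
      · rw [Set.mem_singleton_iff.1 hx]; exact (hcl _ ih).2
  have h3 : ∀ i, i < M.length → ∃ g ∈ Subgroup.closure {a, b}, lmat g = M.getD i [] := by
    intro i
    induction i using Nat.strong_induction_on with
    | _ i ih =>
      intro hi
      have := List.all_eq_true.1 hch i (List.mem_range.2 hi)
      simp only [Bool.or_eq_true, Bool.and_eq_true, beq_iff_eq, decide_eq_true_eq] at this
      rcases this with ⟨rfl, h⟩ | ⟨hj, h⟩
      · exact ⟨1, one_mem _, by rw [lmat_one, h]⟩
      · obtain ⟨g, hg, hge⟩ := ih _ hj (by omega)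
        rw [h, ← hge]
        split_ifs
        · exact ⟨a * g, mul_mem (Subgroup.subset_closure (Or.inl rfl)) hg, lmat_mul _ _⟩
        · exact ⟨b * g, mul_mem (Subgroup.subset_closure (Or.inr rfl)) hg, lmat_mul _ _⟩
  refine ⟨le_antisymm ?_ ?_, h2⟩
  · refine (Nat.card_le_card_of_injective
      (fun g : Subgroup.closure {a, b} => (⟨lmat g, h2 g g.2⟩ : {x // x ∈ M}))
      fun x y h => Subtype.ext (lmat_injective (congrArg Subtype.val h))).trans ?_
    rw [Nat.card_eq_fintype_card, Fintype.card_of_subtype M.toFinset (fun x => List.mem_toFinset)]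
    exact List.toFinset_card_le M
  · have hch' : ∀ i : Fin M.length, ∃ g ∈ Subgroup.closure {a, b}, lmat g = M[i.val] := fun i => by
      obtain ⟨g, hg, e⟩ := h3 i.val i.isLt
      exact ⟨g, hg, e.trans (List.getD_eq_getElem _ _ i.isLt)⟩
    choose f hf hfe using hch'
    have := Nat.card_le_card_of_injective (fun i => (⟨f i, hf i⟩ : Subgroup.closure {a, b}))
      fun i j h => by
        have hij : f i = f j := Subtype.mk.inj h
        have he : M[i.val] = M[j.val] := by rw [← hfe i, ← hfe j, hij]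
        exact Fin.ext ((List.Nodup.getElem_inj_iff hnd).1 he)
    simpa using this

/-- A `p`-element is conjugate into every subgroup of full `p`-order. -/
theorem exists_conj_mem {p m : ℕ} [Fact p.Prime] {H : Subgroup ↥L} (hH : Nat.card H = p ^ m)
    (hidx : ¬ p ∣ H.index) {g : ↥L} (hg : ∃ k, orderOf g = p ^ k) : ∃ c : ↥L, c * g * c⁻¹ ∈ H := by
  obtain ⟨j, hj⟩ := hg
  have hz : IsPGroup p (Subgroup.zpowers g) := IsPGroup.of_card (by rw [Nat.card_zpowers, hj])
  obtain ⟨Q, hQ⟩ := hz.exists_le_sylow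
  obtain ⟨c, hc⟩ := MulAction.exists_smul_eq (↥L) Q ((IsPGroup.of_card hH).toSylow hidx)
  refine ⟨c, ?_⟩
  have : c * g * c⁻¹ ∈ ((c • Q : Sylow p ↥L) : Subgroup ↥L) := by
    rw [Sylow.coe_subgroup_smul]
    exact ⟨g, hQ (Subgroup.mem_zpowers g), rfl⟩
  rw [hc] at this
  simpa using this

theorem not_dvd_index {p m : ℕ} (hp : 0 < p) {H : Subgroup ↥L} (hH : Nat.card H = p ^ m)
    (h : (2 ^ 12 * 3 ^ 4 * 7 ^ 2 * 13) / p ^ m % p ≠ 0) : ¬ p ∣ H.index := by
  intro hd
  apply h
  have := H.card_mul_index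
  rw [hH, card_L] at this
  rw [← this, Nat.mul_div_cancel_left _ (pow_pos hp m)]
  exact Nat.mod_eq_zero_of_dvd hd

theorem orderOf_conj' (c g : ↥L) : orderOf (c * g * c⁻¹) = orderOf g :=
  (MulAut.conj c).orderOf_eq g

/-- A fixed vector of a matrix with vanishing odd geometric sum is zero. -/
theorem fixS_eq_bot_of_geom {g : ↥L} {n : ℕ} (hn : n % 2 = 1)
    (h : geomM (lmat g) n = zeroM) : fixS g = ⊥ := by
  rw [lmat, geomM_ofMat] at h
  have h0 := ofMat_inj (h : _ = ofMat (0 : Matrix (Fin 8) (Fin 8) K8))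
  refine (Submodule.eq_bot_iff _).2 fun v hv => ?_
  have := congrArg (fun M => M *ᵥ v) h0
  simp only [Matrix.sum_mulVec, ← mat_pow, fix_pow (mem_fixS.1 hv), Matrix.zero_mulVec,
    Finset.sum_const, Finset.card_range] at this
  rw [← Nat.cast_smul_eq_nsmul K8, CharP.cast_eq_mod K8 2 n, hn, Nat.cast_one, one_smul] at this
  exact this

/-! ### The prime 3 -/

theorem three_facts {g : ↥L} (hg : ∃ k, orderOf g = 3 ^ k) :
    g ^ 9 = 1 ∧ (g ≠ 1 → if g ^ 3 = 1 then Module.finrank K8 (fixS g) ≤ 4 else fixS g = ⊥) := by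
  haveI : Fact (Nat.Prime 3) := ⟨Nat.prime_three⟩
  obtain ⟨h1, hcl, hnd, hch, hlen⟩ := s_group
  obtain ⟨hcard, hmem⟩ := subgroup_of_list (word Cert.wA) (word Cert.wB) sList Cert.sPar
    (lmat_word _) (lmat_word _) h1 hcl hnd hch
  rw [hlen] at hcard
  obtain ⟨c, hc⟩ := exists_conj_mem (m := 4) (hcard.trans (by norm_num))
    (not_dvd_index (by norm_num) (hcard.trans (by norm_num : 81 = 3 ^ 4)) (by norm_num)) hg
  set y := c * g * c⁻¹ with hy
  obtain ⟨i, hi, hie⟩ := List.getElem_of_mem (hmem y hc)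
  have hok := List.all_eq_true.1 s_ok i (List.mem_range.2 (hlen ▸ hi))
  have hconj : ∀ n : ℕ, y ^ n = 1 ↔ g ^ n = 1 := fun n => by
    rw [hy, conj_pow, conj_eq_one_iff]
  have hlist : ∀ z : ↥L, lmat z = oneM ↔ z = 1 := fun z => by
    rw [← lmat_one, lmat_injective.eq_iff]
  rw [List.getD_eq_getElem _ _ hi, hie, sOk] at hok
  simp only [← lmat_mul, beq_iff_eq, hlist, Bool.or_eq_true] at hok
  rw [show y * y * y = y ^ 3 from (pow_three' y).symm] at hok
  have hfix : ∀ v ∈ fixS y, ∀ n, mat (y ^ n) *ᵥ v = v := fun v hv => fix_pow (mem_fixS.1 hv)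
  rcases hok with h1' | hok
  · have hg1 : g = 1 := by simpa using (hconj 1).1 (by rw [pow_one, h1'])
    exact ⟨by rw [hg1, one_pow], fun h => absurd hg1 h⟩
  by_cases h3 : g ^ 3 = 1
  · refine ⟨by rw [show 9 = 3 * 3 by rfl, pow_mul, h3, one_pow], fun _ => ?_⟩
    rw [if_pos h3]
    rw [if_pos ((hconj 3).2 h3), beq_iff_eq, lmat, lmat, dec, dec, oneM, ofMat_add, ofMat_add,
      ofMat_mul] at hok
    have hE := ofMat_inj hok
    rw [← fixS_conj c g]
    refine le_trans (Submodule.finrank_mono (t := LinearMap.range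
      (1 + mat y + mat (y * y)).mulVecLin) fun v hv => ⟨v, ?_⟩) ?_
    · rw [Matrix.mulVecLin_apply, Matrix.add_mulVec, Matrix.add_mulVec, Matrix.one_mulVec,
        mem_fixS.1 hv, ← sq, hfix v hv]
      funext j; simp [CharTwo.add_self_eq_zero]
    · show Matrix.rank _ ≤ 4
      rw [hE]
      exact (Matrix.rank_mul_le_left _ _).trans (Matrix.rank_le_width _)
  · rw [if_neg fun e => h3 ((hconj 3).1 e), Bool.and_eq_true, beq_iff_eq, beq_iff_eq] at hok
    obtain ⟨h9, hN⟩ := hok
    rw [hlist] at h9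
    refine ⟨(hconj 9).1 (by rw [← h9]; group), fun _ => ?_⟩
    rw [if_neg h3]
    rw [lmat, lmat, lmat, lmat, oneM, ofMat_add, ofMat_add, ofMat_add, ofMat_add, ofMat_mul] at hN
    have h0 := ofMat_inj (hN : _ = ofMat (0 : Matrix (Fin 8) (Fin 8) K8))
    refine fixS_conj_eq_bot c g ((Submodule.eq_bot_iff _).2 fun v hv => ?_)
    have := congrArg (fun M => M *ᵥ v) h0
    have e1 : mat y *ᵥ v = v := mem_fixS.1 hv
    have e2 : mat (y * y) *ᵥ v = v := by rw [← sq]; exact hfix v hv 2
    have e3 : mat (y ^ 3) *ᵥ v = v := hfix v hv 3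
    have e4 : mat (y ^ 3 * y ^ 3) *ᵥ v = v := by rw [← pow_add]; exact hfix v hv 6
    have hw : (1 + mat (y ^ 3) + mat (y ^ 3 * y ^ 3)) *ᵥ v = v := by
      rw [Matrix.add_mulVec, Matrix.add_mulVec, Matrix.one_mulVec, e3, e4]
      funext j; simp [CharTwo.add_self_eq_zero]
    simp only [← Matrix.mulVec_mulVec, hw, Matrix.add_mulVec, Matrix.one_mulVec, e1, e2,
      Matrix.zero_mulVec] at this
    rw [← this]
    funext j; simp [CharTwo.add_self_eq_zero]

/-! ### The prime 7 -/

theorem seven_facts {g : ↥L} (hg : ∃ k, orderOf g = 7 ^ k) :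
    g ^ 7 = 1 ∧ (g ≠ 1 → Module.finrank K8 (fixS g) ≤ 4 ∧
      (fixS g = ⊥ ∨ ∀ y : ↥L, y ^ 3 = 1 → Commute y g → 6 ≤ Module.finrank K8 (fixS y))) := by
  haveI : Fact (Nat.Prime 7) := ⟨by norm_num⟩
  obtain ⟨h1, hcl, hnd, hch, hlen⟩ := t_group
  obtain ⟨hcard, hmem⟩ := subgroup_of_list (word Cert.wT₁) (word Cert.wT₂) tList Cert.tPar
    (lmat_word _) (lmat_word _) h1 hcl hnd hch
  rw [hlen] at hcard
  obtain ⟨c, hc⟩ := exists_conj_mem (m := 2) (hcard.trans (by norm_num))
    (not_dvd_index (by norm_num) (hcard.trans (by norm_num : 49 = 7 ^ 2)) (by norm_num)) hg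
  set x := c * g * c⁻¹ with hx
  obtain ⟨i, hi, hie⟩ := List.getElem_of_mem (hmem x hc)
  have hi49 : i < 49 := hlen ▸ hi
  have hok := List.all_eq_true.1 t_diag i (List.mem_range.2 hi49)
  rw [List.getD_eq_getElem _ _ hi, hie, beq_iff_eq] at hok
  have hd := hok
  have hconj : ∀ n : ℕ, x ^ n = 1 ↔ g ^ n = 1 := fun n => by rw [hx, conj_pow, conj_eq_one_iff]
  set P := unpack 8 8 Cert.matP with hP
  set Q := unpack 8 8 Cert.matQ with hQ
  obtain ⟨hQP', hPQ'⟩ := pq_ok
  rw [dec, dec, ofMat_mul, oneM] at hQP' hPQ'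
  have hQP : Q * P = 1 := ofMat_inj hQP'
  have hPQ : P * Q = 1 := ofMat_inj hPQ'
  rw [dec, dec, lmat, ofMat_mul, ofMat_mul] at hd
  have hD : Q * (mat x * P) = Matrix.diagonal (tDiag i) := ofMat_inj hd
  have hX : mat x = P * Matrix.diagonal (tDiag i) * Q := by
    rw [← hD]
    simp only [← Matrix.mul_assoc, hPQ, Matrix.one_mul]
    rw [Matrix.mul_assoc, hPQ, Matrix.mul_one]
  have hne : ∀ j, tDiag i j ≠ 0 := (t_ok (Fin.mk i hi49)).1
  have hcases : (∀ j, tDiag i j = 1) ∨ (∀ j, tDiag i j ≠ 1) ∨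
      ((Finset.univ.filter fun j => tDiag i j = 1).card = 2 ∧
        ∀ j l, tDiag i l ≠ 1 → tDiag i j = tDiag i l → j = l) := (t_ok (Fin.mk i hi49)).2
  have hDpow : ∀ n, mat (x ^ n) = P * Matrix.diagonal (tDiag i) ^ n * Q := by
    intro n
    induction n with
    | zero => rw [pow_zero, pow_zero, mat_one, Matrix.mul_one, hPQ]
    | succ n ih =>
      rw [pow_succ, mat_mul, ih, hX, pow_succ]
      calc P * Matrix.diagonal (tDiag i) ^ n * Q * (P * Matrix.diagonal (tDiag i) * Q) =
            P * (Matrix.diagonal (tDiag i) ^ n * ((Q * P) * (Matrix.diagonal (tDiag i) * Q))) := by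
              simp only [Matrix.mul_assoc]
        _ = _ := by rw [hQP, Matrix.one_mul]; simp only [Matrix.mul_assoc]
  refine ⟨(hconj 7).1 (mat_injective ?_), fun hg1 => ?_⟩
  · rw [hDpow, Matrix.diagonal_pow, show tDiag i ^ 7 = fun _ => 1 from
      funext fun j => seventh _ (hne j), Matrix.diagonal_one, Matrix.mul_one, hPQ, mat_one]
  rcases hcases with hall | hnone | ⟨hcard2, hsimple⟩
  · exfalso
    refine hg1 ((conj_eq_one_iff (a := c)).1 (mat_injective ?_))
    rw [← hx]
    rw [mat_one, hX, show tDiag i = fun _ => 1 from funext hall, Matrix.diagonal_one, Matrix.mul_one,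
      hPQ]
  -- coordinates of a fixed vector vanish outside the ones of the diagonal
  all_goals
    have hsupp : ∀ v ∈ fixS x, ∀ j, tDiag i j ≠ 1 → (Q *ᵥ v) j = 0 := by
      intro v hv j hj
      have h2 := congrArg (fun u => (Q *ᵥ u) j) (mem_fixS.1 hv)
      simp only [hX, Matrix.mulVec_mulVec, ← Matrix.mul_assoc, hQP, Matrix.one_mul] at h2
      rw [← Matrix.mulVec_mulVec, Matrix.mulVec_diagonal] at h2
      have h3 : (tDiag i j - 1) * (Q *ᵥ v) j = 0 := by rw [sub_mul, one_mul, h2, sub_self]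
      exact (mul_eq_zero.1 h3).resolve_left (sub_ne_zero.2 hj)
    have hQinj : Function.Injective fun v => Q *ᵥ v := fun v w h => by
      have := congrArg (fun u => P *ᵥ u) h
      simpa [Matrix.mulVec_mulVec, hPQ] using this
  · have hbot : fixS x = ⊥ := (Submodule.eq_bot_iff _).2 fun v hv => by
      refine hQinj ?_
      funext j
      simpa using hsupp v hv j (hnone j)
    exact ⟨by rw [← fixS_conj c g, hbot, finrank_bot]; norm_num, Or.inl (fixS_conj_eq_bot c g hbot)⟩
  · refine ⟨?_, Or.inr fun y hy hyg => ?_⟩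
    · rw [← fixS_conj c g]
      refine le_trans (LinearMap.finrank_le_finrank_of_injective
        (f := ((LinearMap.funLeft K8 K8 (Subtype.val : {j // tDiag i j = 1} → Fin 8)).comp
          Q.mulVecLin).comp (fixS x).subtype) ?_) ?_
      · intro v w h
        refine Subtype.ext (hQinj ?_)
        show Q *ᵥ (v : Fin 8 → K8) = Q *ᵥ (w : Fin 8 → K8)
        funext j
        by_cases hj : tDiag i j = 1
        · exact congrFun h ⟨j, hj⟩
        · rw [hsupp v v.2 j hj, hsupp w w.2 j hj]
      · rw [Module.finrank_fintype_fun_eq_card, Fintype.card_subtype, hcard2]; norm_num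
    · set z := c * y * c⁻¹ with hz
      rw [← fixS_conj c y]
      have hz3 : z ^ 3 = 1 := by rw [hz, conj_pow, hy]; group
      have hzx : mat z * mat x = mat x * mat z := by
        rw [← mat_mul, ← mat_mul]
        exact congrArg mat (hyg.map (MulAut.conj c).toMonoidHom).eq
      set Y := Q * mat z * P with hY
      have hYd : Y * Matrix.diagonal (tDiag i) = Matrix.diagonal (tDiag i) * Y := by
        rw [← hD, hY]
        calc Q * mat z * P * (Q * (mat x * P)) = Q * (mat z * ((P * Q) * mat x)) * P := by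
              simp only [Matrix.mul_assoc]
          _ = Q * ((mat x * (P * Q)) * mat z) * P := by
              rw [hPQ, Matrix.one_mul, Matrix.mul_one, hzx]
          _ = _ := by simp only [Matrix.mul_assoc]
      have hY3 : Y * (Y * Y) = 1 := by
        calc Y * (Y * Y) = Q * (mat z * ((P * Q) * (mat z * ((P * Q) * (mat z * P))))) := by
              simp only [hY, Matrix.mul_assoc]
          _ = Q * (mat (z ^ 3) * P) := by
              rw [hPQ]; simp only [Matrix.one_mul, pow_succ, pow_zero, one_mul, mat_mul, Matrix.mul_assoc]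
          _ = 1 := by rw [hz3, mat_one, Matrix.one_mul, hQP]
      have hcol : ∀ l, tDiag i l ≠ 1 → ∀ j, Y j l = if j = l then 1 else 0 := by
        intro l hl
        have hoff : ∀ j, j ≠ l → Y j l = 0 := fun j hj => by
          have h2 := congrFun (congrFun hYd j) l
          rw [Matrix.mul_diagonal, Matrix.diagonal_mul] at h2
          have h3 : (tDiag i l - tDiag i j) * Y j l = 0 := by linear_combination h2
          exact (mul_eq_zero.1 h3).resolve_left (sub_ne_zero.2 fun e => hj (hsimple j l hl e.symm))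
        intro j
        split_ifs with hjl
        · subst hjl
          have h2 := congrFun (congrFun hY3 j) j
          rw [Matrix.one_apply_eq, Matrix.mul_apply, Finset.sum_eq_single j, Matrix.mul_apply,
            Finset.sum_eq_single j] at h2
          · exact cube_one _ (by rw [← h2]; ring)
          · intro b _ hb; rw [hoff b hb, mul_zero]
          · simp
          · intro b _ hb
            rw [Matrix.mul_apply, Finset.sum_eq_zero fun d _ => ?_, mul_zero]
            by_cases hd' : d = j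
            · rw [hd', hoff b hb, zero_mul]
            · rw [hoff d hd', mul_zero]
          · simp
        · exact hoff j hjl
      have hfix : ∀ l, tDiag i l ≠ 1 → P *ᵥ Pi.single l 1 ∈ fixS z := by
        intro l hl
        rw [mem_fixS]
        have h2 : Y *ᵥ Pi.single l 1 = Pi.single l 1 := by
          funext j
          rw [Matrix.mulVec_single_one, Matrix.col_apply, hcol l hl j, Pi.single_apply]
        have h3 : mat z * P = P * Y := by
          rw [hY, ← Matrix.mul_assoc, ← Matrix.mul_assoc, hPQ, Matrix.one_mul]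
        rw [Matrix.mulVec_mulVec, h3, ← Matrix.mulVec_mulVec, h2]
      have hli : LinearIndependent K8
          (fun l : {l // tDiag i l ≠ 1} => (⟨_, hfix l.1 l.2⟩ : fixS z)) := by
        refine LinearIndependent.of_comp (fixS z).subtype ?_
        have h4 : LinearIndependent K8 (fun l : Fin 8 => P *ᵥ (Pi.single l 1 : Fin 8 → K8)) :=
          (Pi.linearIndependent_single_one (Fin 8) K8).map' P.mulVecLin (LinearMap.ker_eq_bot.2
            fun v w h => by
              have := congrArg (fun u => Q *ᵥ u) h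
              simpa [Matrix.mulVec_mulVec, hQP] using this)
        exact h4.comp _ Subtype.val_injective
      refine le_trans ?_ hli.fintype_card_le_finrank
      rw [Fintype.card_subtype_compl, Fintype.card_fin, Fintype.card_subtype, hcard2]

/-! ### The prime 13 and witnesses -/

theorem thirteen_fixS {g : ↥L} (hg : orderOf g = 13) : fixS g = ⊥ := by
  haveI : Fact (Nat.Prime 13) := ⟨by norm_num⟩
  obtain ⟨hz13, hz1, hz⟩ := z_ok
  rw [← lmat_word] at hz13 hz1 hz
  rw [← lmat_pow, ← lmat_one, lmat_injective.eq_iff] at hz13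
  set z := word Cert.wZ
  have ho : orderOf z = 13 := orderOf_eq_prime hz13 fun e => hz1 (e ▸ lmat_one)
  have hcard : Nat.card (Subgroup.zpowers z) = 13 ^ 1 := by rw [Nat.card_zpowers, ho, pow_one]
  obtain ⟨c, hc⟩ := exists_conj_mem hcard (not_dvd_index (by norm_num) hcard (by norm_num))
    ⟨1, by rw [hg, pow_one]⟩
  set y := c * g * c⁻¹
  have hyo : orderOf y = 13 := (orderOf_conj' c g).trans hg
  have hzy : z ∈ Subgroup.zpowers y := by
    rw [Subgroup.eq_of_le_of_card_ge (Subgroup.zpowers_le.2 hc)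
      (by rw [Nat.card_zpowers, Nat.card_zpowers, ho, hyo])]
    exact Subgroup.mem_zpowers z
  obtain ⟨j, hj : y ^ j = z⟩ := mem_powers_iff_mem_zpowers.2 hzy
  refine fixS_conj_eq_bot c g ((Submodule.eq_bot_iff _).2 fun v hv => ?_)
  have hv' : v ∈ fixS z := mem_fixS.2 (hj ▸ fix_pow (mem_fixS.1 hv) j)
  rwa [fixS_eq_bot_of_geom (n := 13) rfl hz, Submodule.mem_bot] at hv'

end Cfsg.Agent.IsoD4
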