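import Cfsg.Agent.Lib.IsoD4.Mat
import Cfsg.Agent.Lib.D4Iso.Iso
import Cfsg.Agent.Lib.Chev.Sylow
import Cfsg.Agent.Lib.Chev.TwistOrderD4
import Cfsg.Agent.Lib.Chev.TwistD4Group

/-!
`3D4(2)` on its natural eight-dimensional module: the preimage in the orthogonal group, generators as lists.
-/

set_option autoImplicit false

namespace Cfsg.Agent.IsoD4

open Cfsg Cfsg.Lie Cfsg.Agent.Chev
open SzEight (K8 k)
open D4Iso (qf I rootEl rootAt nz dlt phi rhoQ)

/-- The ambient derived orthogonal group. -/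
abbrev Om : Type := ↥(Omega K8 (⇑(qf K8)))

/-- `3D4(2)` inside the derived orthogonal group. -/
noncomputable def L : Subgroup Om := (twistedD4 K8 2).comap (phi K8)

theorem twisted_le : twistedD4 K8 2 ≤ chevD4.group K8 :=
  ChevSylow.genSubgroup_le_group ⟨_, D4.valid⟩ _

theorem phi_injective : Function.Injective (phi K8) := by
  rw [← MonoidHom.ker_eq_bot_iff, D4Iso.phi_ker, eq_bot_iff]
  intro z hz
  obtain ⟨c, hc2, hc⟩ := D4Iso.center_le_scalar hz
  have hc1 : c = 1 := (show ∀ c : K8, c * c = 1 → c = 1 by decide +kernel) c hc2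
  rw [hc1, one_smul] at hc
  exact Subgroup.mem_bot.2 (Subtype.ext (Subtype.ext (Units.ext hc)))

theorem map_L : L.map (phi K8) = twistedD4 K8 2 :=
  Subgroup.map_comap_eq_self (by rw [D4Iso.phi_range]; exact twisted_le)

/-- The isomorphism with the twisted group. -/
noncomputable def equivTwisted : ↥L ≃* ↥(twistedD4 K8 2) :=
  (L.equivMapOfInjective (phi K8) phi_injective).trans (MulEquiv.subgroupCongr map_L)

theorem card_K8' : Fintype.card K8 = 2 ^ 3 := SzEight.card_K8

theorem card_twisted : Nat.card (twistedD4 K8 2) = 2 ^ 12 * 3 ^ 4 * 7 ^ 2 * 13 := by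
  obtain ⟨φ, -, he, hcube, hcard⟩ :=
    BNSetup.exists_frob3 (q := 2) (Nat.prime_two.isPrimePow) card_K8'
  rw [← he, BNSetup.card_twistedD4 card_K8' hcube hcard, BNSetup.poly_twLevelsD4]
  norm_num

theorem card_L : Nat.card ↥L = 2 ^ 12 * 3 ^ 4 * 7 ^ 2 * 13 :=
  (Nat.card_congr equivTwisted.toEquiv).trans card_twisted

instance : Finite ↥L := Nat.finite_of_card_ne_zero (by rw [card_L]; norm_num)

/-- The matrix on the natural module. -/
noncomputable def natM : ↥L →* Matrix I I K8 :=
  (Units.coeHom _).comp ((isometryGroup K8 (⇑(qf K8))).subtype.comp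
    ((Omega K8 (⇑(qf K8))).subtype.comp L.subtype))

theorem natM_injective : Function.Injective natM := fun _ _ h =>
  Subtype.ext (Subtype.ext (Subtype.ext (Units.ext h)))

/-- The numbering of the basis. -/
abbrev idx : I ≃ Fin 8 := finSumFinEquiv

/-- The matrix with indices in `Fin 8`. -/
noncomputable def mat (g : ↥L) : Matrix (Fin 8) (Fin 8) K8 :=
  Matrix.reindexAlgEquiv K8 K8 idx (natM g)

theorem mat_one : mat 1 = 1 := by rw [mat, map_one, map_one]

theorem mat_mul (g h : ↥L) : mat (g * h) = mat g * mat h := by rw [mat, map_mul, map_mul]; rfl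

theorem mat_pow (g : ↥L) : ∀ n, mat (g ^ n) = mat g ^ n
  | 0 => by rw [pow_zero, pow_zero, mat_one]
  | n + 1 => by rw [pow_succ, pow_succ, mat_mul, mat_pow g n]

theorem mat_injective : Function.Injective mat := fun _ _ h =>
  natM_injective ((Matrix.reindexAlgEquiv K8 K8 idx).injective h)

/-- The lists of a matrix. -/
noncomputable def lmat (g : ↥L) : List (List K8) := ofMat (mat g)

theorem lmat_injective : Function.Injective lmat := fun _ _ h => mat_injective (ofMat_inj h)

theorem lmat_one : lmat 1 = oneM := by rw [lmat, mat_one]; rfl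

theorem lmat_mul (g h : ↥L) : lmat (g * h) = mulM 8 (lmat g) (lmat h) := by
  rw [lmat, lmat, lmat, ofMat_mul, mat_mul]

theorem lmat_pow (g : ↥L) (n : ℕ) : lmat (g ^ n) = powM (lmat g) n := by
  rw [lmat, lmat, mat_pow, powM_ofMat]

/-- A root element on the natural module, entry by entry. -/
def rootFn (r : ℕ) (t : K8) (a b : I) : K8 :=
  (if a = b then 1 else 0) + (if nz (rootAt r) a b % 2 = 0 then 0 else t)

theorem cast_parity (z : ℤ) : (z : K8) = if z % 2 = 0 then 0 else 1 := by
  rcases Int.emod_two_eq_zero_or_one z with h | h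
  · rw [if_pos h]
    exact (CharP.intCast_eq_zero_iff K8 2 z).2 (Int.dvd_of_emod_eq_zero h)
  · rw [if_neg (by omega)]
    have h2 : ((z - 1 : ℤ) : K8) = 0 :=
      (CharP.intCast_eq_zero_iff K8 2 (z - 1)).2 (Int.dvd_of_emod_eq_zero (by omega))
    push_cast at h2
    exact sub_eq_zero.1 h2

theorem rootEl_eq {r : ℕ} (hr : r < 24) (t : K8) (a b : I) :
    ((rootEl r t : GL I K8) : Matrix I I K8) a b = rootFn r t a b := by
  rw [D4Iso.rootEl_apply hr, rootFn, cast_parity (nz _ a b), dlt]
  congr 1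
  · split_ifs <;> simp
  · split_ifs <;> simp

/-- A root element as lists. -/
def rootL (p : Fin 24 × K8) : List (List K8) :=
  ofMat (Matrix.of fun i j => rootFn p.1.val p.2 (idx.symm i) (idx.symm j))

theorem exists_rootOm (p : Fin 24 × K8) : ∃ g : Om,
    ((g : ↥(isometryGroup K8 (⇑(qf K8)))) : GL I K8) = rootEl p.1.val p.2 := by
  have hmem : rootEl p.1.val p.2 ∈ Cfsg.Geo.omegaGL (⇑(qf K8)) := by
    rw [D4Iso.omega_eq_rootGroup]; exact Subgroup.subset_closure ⟨p.1, p.2, rfl⟩
  obtain ⟨g, hgo, (hge : (g : GL I K8) = _)⟩ := hmem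
  exact ⟨⟨g, hgo⟩, hge⟩

/-- A root element of the derived orthogonal group. -/
noncomputable def rootOm (p : Fin 24 × K8) : Om := Classical.choose (exists_rootOm p)

theorem phi_rootOm (p : Fin 24 × K8) : phi K8 (rootOm p) = xg chevD4 K8 p.1.val p.2 := by
  rw [← D4Iso.rhoQ_root]
  exact congrArg (rhoQ K8) (Subtype.ext (Classical.choose_spec (exists_rootOm p)))

/-- The generators as words in root elements. -/
def genWord : Fin 8 → List (Fin 24 × K8) :=
  ![[(14, 1)], [(18, k 1), (13, k 1), (12, k 1)], [(18, k 2), (13, k 2 * k 2), (12, k 2 * k 2 * (k 2 * k 2))],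
    [(18, k 4), (13, k 4 * k 4), (12, k 4 * k 4 * (k 4 * k 4))],
    [(9, 1)], [(5, k 1), (10, k 1), (11, k 1)], [(5, k 2), (10, k 2 * k 2), (11, k 2 * k 2 * (k 2 * k 2))],
    [(5, k 4), (10, k 4 * k 4), (11, k 4 * k 4 * (k 4 * k 4))]]

theorem one_cases : ((1 : K8) ^ 2 = 1) ∧ k 1 = 1 := by decide +kernel

theorem genWord_mem (i : Fin 8) :
    ((genWord i).map fun p => (p.1.val, p.2)) ∈ d4Words K8 2 := by
  have h4 : ∀ t : K8, t * t * (t * t) = t ^ (2 ^ 2) := fun t => by ring
  fin_cases i
  · exact Or.inl ⟨1, one_pow 2, 14, by decide, rfl⟩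
  · exact Or.inr ⟨1, (18, 13, 12), by decide, by simp [genWord, one_cases.2]⟩
  · exact Or.inr ⟨k 2, (18, 13, 12), by decide, by simp [genWord, ← sq]; rfl⟩
  · exact Or.inr ⟨k 4, (18, 13, 12), by decide, by simp [genWord, ← sq]; rfl⟩
  · exact Or.inl ⟨1, one_pow 2, 9, by decide, rfl⟩
  · exact Or.inr ⟨1, (5, 10, 11), by decide, by simp [genWord, one_cases.2]⟩
  · exact Or.inr ⟨k 2, (5, 10, 11), by decide, by simp [genWord, ← sq]; rfl⟩
  · exact Or.inr ⟨k 4, (5, 10, 11), by decide, by simp [genWord, ← sq]; rfl⟩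

theorem genOm_mem (i : Fin 8) : ((genWord i).map rootOm).prod ∈ L := by
  rw [L, Subgroup.mem_comap, map_list_prod, List.map_map]
  refine Subgroup.subset_closure ⟨_, genWord_mem i, ?_⟩
  rw [← Good.coe_wordG ⟨_, D4.valid⟩, wordG, List.map_map]
  exact congrArg (fun l : List (GL chevD4.Idx K8) => ((l.prod : GL chevD4.Idx K8) :
    Matrix chevD4.Idx chevD4.Idx K8)) (List.map_congr_left fun p _ => phi_rootOm p)

/-- The generators. -/
noncomputable def gen (i : Fin 8) : ↥L := ⟨_, genOm_mem i⟩

/-- The generators as lists. -/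
def genL (i : Fin 8) : List (List K8) := (genWord i).foldr (fun p acc => mulM 8 (rootL p) acc) oneM

theorem ofMat_rootProd : ∀ w : List (Fin 24 × K8),
    ofMat (Matrix.reindexAlgEquiv K8 K8 idx ((((w.map rootOm).prod : Om) :
      ↥(isometryGroup K8 (⇑(qf K8)))) : GL I K8)) =
      w.foldr (fun p acc => mulM 8 (rootL p) acc) oneM
  | [] => by simp only [List.map_nil, List.prod_nil, OneMemClass.coe_one, Units.val_one, map_one]; rfl
  | p :: w => by
    rw [List.map_cons, List.prod_cons, List.foldr_cons, ← ofMat_rootProd w]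
    simp only [Subgroup.coe_mul, Units.val_mul, map_mul]
    rw [← ofMat_mul]
    congr 1
    refine congrArg ofMat (Matrix.ext fun i j => ?_)
    rw [Classical.choose_spec (exists_rootOm p) |> fun e => (by rw [rootOm, e] :
      ((((rootOm p : Om) : ↥(isometryGroup K8 (⇑(qf K8)))) : GL I K8) : Matrix I I K8) =
        (rootEl p.1.val p.2 : GL I K8))]
    exact rootEl_eq p.1.isLt p.2 _ _

theorem lmat_gen (i : Fin 8) : lmat (gen i) = genL i := ofMat_rootProd (genWord i)

/-- A word in the generators. -/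
noncomputable def word (w : List (Fin 8)) : ↥L := (w.map gen).prod

/-- A word as lists. -/
def wordL : List (Fin 8) → List (List K8)
  | [] => oneM
  | i :: w => mulM 8 (genL i) (wordL w)

theorem lmat_word : ∀ w : List (Fin 8), lmat (word w) = wordL w
  | [] => by rw [word, List.map_nil, List.prod_nil, lmat_one]; rfl
  | i :: w => by rw [word, List.map_cons, List.prod_cons, lmat_mul, lmat_gen, ← word, lmat_word w]; rfl

end Cfsg.Agent.IsoD4
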