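import Cfsg.Agent.Lib.SzEight.Field

/-!
Matrices over the field with eight elements as lists of rows, for evaluation in the kernel.
-/

set_option autoImplicit false

namespace Cfsg.Agent.IsoD4

open SzEight (K8)

/-- A matrix as a list of rows. -/
def ofMat {n m : ℕ} (A : Matrix (Fin n) (Fin m) K8) : List (List K8) :=
  List.ofFn fun i => List.ofFn fun j => A i j

/-- The sum of two rows. -/
def addR (a b : List K8) : List K8 := List.zipWith (fun x y => x + y) a b

/-- A combination of rows of length `m`. -/
def comb (m : ℕ) : List K8 → List (List K8) → List K8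
  | a :: r, b :: B => addR (b.map fun x => a * x) (comb m r B)
  | _, _ => List.replicate m 0

/-- The product. -/
def mulM (m : ℕ) (A B : List (List K8)) : List (List K8) := A.map fun r => comb m r B

/-- The sum. -/
def addM (A B : List (List K8)) : List (List K8) := List.zipWith addR A B

/-- The identity. -/
def oneM : List (List K8) := ofMat (1 : Matrix (Fin 8) (Fin 8) K8)

/-- The zero matrix. -/
def zeroM : List (List K8) := ofMat (0 : Matrix (Fin 8) (Fin 8) K8)

/-- Powers. -/
def powM (A : List (List K8)) : ℕ → List (List K8)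
  | 0 => oneM
  | k + 1 => mulM 8 (powM A k) A

/-- The sum of the first `k` powers. -/
def geomM (A : List (List K8)) : ℕ → List (List K8)
  | 0 => zeroM
  | k + 1 => addM (mulM 8 (geomM A k) A) oneM

theorem addR_ofFn {m : ℕ} (a b : Fin m → K8) :
    addR (List.ofFn a) (List.ofFn b) = List.ofFn fun j => a j + b j := by
  apply List.ext_getElem
  · simp [addR]
  · intro i h1 h2
    simp [addR]

theorem comb_ofFn {n m : ℕ} (a : Fin n → K8) (B : Fin n → Fin m → K8) :
    comb m (List.ofFn a) (List.ofFn fun k => List.ofFn (B k)) =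
      List.ofFn fun j => ∑ k, a k * B k j := by
  induction n with
  | zero => simp [comb, List.ofFn_const]
  | succ n ih =>
    simp only [List.ofFn_succ, comb]
    rw [ih, List.map_ofFn, addR_ofFn]
    exact congrArg _ (funext fun j => by simp [Fin.sum_univ_succ])

theorem ofMat_mul {l n m : ℕ} (A : Matrix (Fin l) (Fin n) K8) (B : Matrix (Fin n) (Fin m) K8) :
    mulM m (ofMat A) (ofMat B) = ofMat (A * B) := by
  unfold mulM ofMat
  rw [List.map_ofFn]
  exact congrArg _ (funext fun i => comb_ofFn (A i) B)

theorem ofMat_add {n m : ℕ} (A B : Matrix (Fin n) (Fin m) K8) :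
    addM (ofMat A) (ofMat B) = ofMat (A + B) := by
  unfold addM ofMat
  apply List.ext_getElem
  · simp
  · intro i h1 h2
    simp [addR_ofFn]

theorem ofMat_inj {n m : ℕ} {A B : Matrix (Fin n) (Fin m) K8} (h : ofMat A = ofMat B) : A = B :=
  funext fun i => List.ofFn_inj.1 (congrFun (List.ofFn_inj.1 h) i)

theorem powM_ofMat (A : Matrix (Fin 8) (Fin 8) K8) : ∀ k, powM (ofMat A) k = ofMat (A ^ k)
  | 0 => by rw [powM, pow_zero]; rfl
  | k + 1 => by rw [powM, powM_ofMat A k, ofMat_mul, pow_succ]

theorem geomM_ofMat (A : Matrix (Fin 8) (Fin 8) K8) :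
    ∀ k, geomM (ofMat A) k = ofMat (∑ i ∈ Finset.range k, A ^ i)
  | 0 => by rw [geomM, Finset.sum_range_zero]; rfl
  | k + 1 => by
    rw [geomM, geomM_ofMat A k, ofMat_mul, oneM, ofMat_add, Finset.sum_range_succ',
      Finset.sum_mul, pow_zero]
    exact congrArg ofMat (congrArg (· + 1) (Finset.sum_congr rfl fun i _ => (pow_succ A i).symm))

/-- The entry with three bits at position `j` of a packed row. -/
def bits (r j : ℕ) : K8 := ⟨Fin.ofNat 8 (r >>> (3 * j))⟩

/-- A matrix from packed rows. -/
def unpack (n m : ℕ) (L : List ℕ) : Matrix (Fin n) (Fin m) K8 := fun i j => bits (L.getD i 0) j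

/-- A packed matrix as lists. -/
def dec (n m : ℕ) (L : List ℕ) : List (List K8) := ofMat (unpack n m L)

end Cfsg.Agent.IsoD4
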