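import Cfsg.Agent.Lib.IsoD4.Facts
import Cfsg.Agent.Lib.ClassicalSimple.DicksonRank

/-!
The norms of the elements of `3D4(2)` on the natural module.
-/

set_option autoImplicit false

namespace Cfsg.Agent.IsoD4

open SzEight (K8)
open Matrix

/-- The sum of the images of a vector under the first `n` powers. -/
noncomputable def geomV (n : ℕ) (g : ↥L) (v : Fin 8 → K8) : Fin 8 → K8 :=
  ∑ i ∈ Finset.range n, mat (g ^ i) *ᵥ v

theorem geomV_add (n : ℕ) (g : ↥L) (v w : Fin 8 → K8) :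
    geomV n g (v + w) = geomV n g v + geomV n g w := by
  simp only [geomV, Matrix.mulVec_add, Finset.sum_add_distrib]

theorem geomV_split (m : ℕ) (g : ↥L) (v : Fin 8 → K8) :
    ∀ k, geomV (m * k) g v = geomV m g (geomV k (g ^ m) v)
  | 0 => by simp [geomV]
  | k + 1 => by
    have h1 : geomV (m * (k + 1)) g v = geomV (m * k) g v + geomV m g (mat ((g ^ m) ^ k) *ᵥ v) := by
      rw [geomV, Nat.mul_succ, Finset.sum_range_add]
      congr 1
      refine Finset.sum_congr rfl fun i _ => ?_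
      rw [← pow_mul, Matrix.mulVec_mulVec, ← mat_mul, ← pow_add, add_comm]
    rw [h1, geomV_split m g v k, ← geomV_add]
    congr 1
    rw [geomV, geomV, Finset.sum_range_succ]

theorem geomV_fixed {n : ℕ} {g : ↥L} (h : g ^ n = 1) (v : Fin 8 → K8) : geomV n g v ∈ fixS g := by
  rw [mem_fixS]
  have h1 := Finset.sum_range_succ' (fun i => mat (g ^ i) *ᵥ v) n
  rw [Finset.sum_range_succ, h, pow_zero] at h1
  rw [geomV, Matrix.mulVec_sum, add_right_cancel h1]
  refine Finset.sum_congr rfl fun i _ => ?_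
  rw [Matrix.mulVec_mulVec, ← mat_mul, ← pow_succ']

theorem orderOf_div_pow {g : ↥L} {m : ℕ} (hm : m ∣ orderOf g) :
    orderOf (g ^ (orderOf g / m)) = m :=
  orderOf_pow_orderOf_div (orderOf_pos g).ne' hm

/-- A power without fixed vectors kills the norm. -/
theorem geomV_eq_zero_of_power {g : ↥L} {m : ℕ} (hm : m ∣ orderOf g)
    (h : fixS (g ^ (orderOf g / m)) = ⊥) (v : Fin 8 → K8) : geomV (orderOf g) g v = 0 := by
  conv_lhs => arg 1; rw [← Nat.div_mul_cancel hm]
  rw [geomV_split]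
  have hp : (g ^ (orderOf g / m)) ^ m = 1 := by
    rw [← pow_mul, Nat.div_mul_cancel hm, pow_orderOf_eq_one]
  have := geomV_fixed hp v
  rw [h, Submodule.mem_bot] at this
  rw [this]
  simp [geomV]

/-- In characteristic two the rank condition of the derived orthogonal group. -/
theorem even_fixS (g : ↥L) : Even (Module.finrank K8 (fixS g)) := by
  have hQ : (QuadraticMap.polarBilin (D4Iso.qf K8)).Nondegenerate := D4Iso.nondeg
  have h1 := (ClassicalSimple.mem_omega_iff_even_rank (D4Iso.qf K8) hQ (Or.inr (by simp))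
    (g.1 : ↥(Cfsg.isometryGroup K8 (⇑(D4Iso.qf K8))))).1 g.1.2
  have h2 : (mat g - 1).rank = (natM g - 1).rank := by
    rw [mat, ← map_one (Matrix.reindexAlgEquiv K8 K8 idx), ← map_sub, Matrix.reindexAlgEquiv_apply,
      Matrix.rank_reindex]
  have h3 : Even (mat g - 1).rank := by rw [h2]; exact h1
  have h4 := LinearMap.finrank_range_add_finrank_ker (mat g - 1).mulVecLin
  rw [Module.finrank_fintype_fun_eq_card, Fintype.card_fin] at h4
  change Even (Module.finrank K8 (LinearMap.range (mat g - 1).mulVecLin)) at h3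
  change Even (Module.finrank K8 (LinearMap.ker (mat g - 1).mulVecLin))
  rw [Nat.even_iff] at h3 ⊢
  omega

/-- A nilpotent map with a kernel of dimension at least two has a smaller index. -/
theorem pow_eq_zero_of_ker {W : Type*} [AddCommGroup W] [Module K8 W] [FiniteDimensional K8 W]
    (S : Module.End K8 W) {m d : ℕ} (hm : S ^ m = 0) (hd : Module.finrank K8 W ≤ d + 1) (h1 : 1 ≤ d)
    (hker : 2 ≤ Module.finrank K8 (LinearMap.ker S)) : S ^ d = 0 := by
  have key : ∀ k, 1 ≤ k → min (k + 1) (Module.finrank K8 W) ≤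
      Module.finrank K8 (LinearMap.ker (S ^ k)) := by
    intro k hk
    induction k, hk using Nat.le_induction with
    | base => rw [pow_one]; omega
    | succ k hk ih =>
      by_cases he : LinearMap.ker (S ^ k) = LinearMap.ker (S ^ (k + 1))
      · have h5 := Module.End.ker_pow_constant he m
        rw [pow_add, hm, mul_zero, LinearMap.ker_zero] at h5
        rw [← he, h5, finrank_top]
        omega
      · have hle : LinearMap.ker (S ^ k) ≤ LinearMap.ker (S ^ (k + 1)) := by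
          intro x hx
          rw [LinearMap.mem_ker, pow_succ', Module.End.mul_apply, LinearMap.mem_ker.1 hx, map_zero]
        have := Submodule.finrank_lt_finrank_of_lt (lt_of_le_of_ne hle he)
        omega
  have h2 := key d h1
  rw [min_eq_right hd] at h2
  have h3 : LinearMap.ker (S ^ d) = ⊤ :=
    Submodule.eq_top_of_finrank_eq (le_antisymm (Submodule.finrank_le _) h2)
  exact LinearMap.ker_eq_top.1 h3

theorem sub_one_pow (A : Matrix (Fin 8) (Fin 8) K8) :
    (A - 1) ^ 3 = 1 + A + A ^ 2 + A ^ 3 ∧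
      (A - 1) ^ 7 = 1 + A + A ^ 2 + A ^ 3 + A ^ 4 + A ^ 5 + A ^ 6 + A ^ 7 ∧
      (A - 1) ^ 4 = A ^ 4 + 1 ∧ (A - 1) ^ 8 = A ^ 8 + 1 := by
  have h2 : ∀ B : Matrix (Fin 8) (Fin 8) K8, B + B = 0 := fun B => by
    ext i j; exact CharTwo.add_self_eq_zero (B i j)
  have hs : A - 1 = A + 1 := by
    rw [sub_eq_add_neg, neg_eq_of_add_eq_zero_left (h2 1)]
  have e2 : ∀ B : Matrix (Fin 8) (Fin 8) K8, (B + 1) * (B + 1) = B * B + 1 := fun B => by
    rw [show (B + 1) * (B + 1) = B * B + 1 + (B + B) by noncomm_ring, h2, add_zero]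
  have f2 : (A - 1) ^ 2 = A ^ 2 + 1 := by rw [hs, sq, sq, e2]
  have f4 : (A - 1) ^ 4 = A ^ 4 + 1 := by
    rw [pow_add (A - 1) 2 2, f2, e2, ← pow_add]
  refine ⟨?_, ?_, f4, ?_⟩
  · rw [pow_succ, f2, hs]; noncomm_ring
  · rw [pow_add (A - 1) 6 1, pow_add (A - 1) 4 2, f4, f2, pow_one, hs]; noncomm_ring
  · rw [pow_add (A - 1) 4 4, f4, e2, ← pow_add]

theorem fixS_le_pow (g : ↥L) (n : ℕ) : fixS g ≤ fixS (g ^ n) := fun _ hv =>
  mem_fixS.2 (fix_pow (mem_fixS.1 hv) n)

/-- The nilpotency index of `g - 1` on the fixed space of a power. -/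
theorem sub_one_pow_fix (g : ↥L) (n : ℕ) {m d : ℕ} (hm : ∀ v ∈ fixS (g ^ n), (mat g - 1) ^ m *ᵥ v = 0)
    (hd : Module.finrank K8 (fixS (g ^ n)) ≤ d + 1) (h1 : 1 ≤ d) {v : Fin 8 → K8}
    (hv : v ∈ fixS (g ^ n)) : (mat g - 1) ^ d *ᵥ v = 0 := by
  set T := (mat g - 1).mulVecLin with hT
  have hinv : ∀ u ∈ fixS (g ^ n), T u ∈ fixS (g ^ n) := fun u hu => by
    have hc : mat (g ^ n) * mat g = mat g * mat (g ^ n) := by
      rw [← mat_mul, ← mat_mul, ← pow_succ, ← pow_succ']
    rw [mem_fixS] at hu ⊢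
    rw [hT, Matrix.mulVecLin_apply, Matrix.sub_mulVec, Matrix.one_mulVec, Matrix.mulVec_sub,
      Matrix.mulVec_mulVec, hc, ← Matrix.mulVec_mulVec, hu]
  set S : Module.End K8 (fixS (g ^ n)) := T.restrict hinv with hS
  have hpow : ∀ (k : ℕ) (u : fixS (g ^ n)), ((S ^ k) u : Fin 8 → K8) = (mat g - 1) ^ k *ᵥ u := by
    intro k
    induction k with
    | zero => intro u; rw [pow_zero, pow_zero, Matrix.one_mulVec]; rfl
    | succ k ih =>
      intro u
      rw [pow_succ', Module.End.mul_apply, pow_succ', ← Matrix.mulVec_mulVec, ← ih u]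
      rfl
  have hS0 : S ^ m = 0 := LinearMap.ext fun u => Subtype.ext ((hpow m u).trans (hm u u.2))
  rcases Nat.lt_or_ge (Module.finrank K8 (LinearMap.ker S)) 2 with hlt | hge
  · have hle : Module.finrank K8 (LinearMap.ker S) = Module.finrank K8 (fixS g) := by
      have hk : (LinearMap.ker S).map (fixS (g ^ n)).subtype = fixS g := by
        ext u
        constructor
        · rintro ⟨w, hw, rfl⟩
          exact congrArg Subtype.val (LinearMap.mem_ker.1 hw)
        · intro hu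
          exact ⟨⟨u, fixS_le_pow g n hu⟩, Subtype.ext (LinearMap.mem_ker.1 hu), rfl⟩
      rw [← hk, Submodule.finrank_map_subtype_eq]
    have h0 : Module.finrank K8 (LinearMap.ker S) = 0 := by
      have := Nat.even_iff.1 (hle.symm ▸ even_fixS g); omega
    rw [Submodule.finrank_eq_zero] at h0
    have hinj : Function.Injective S := LinearMap.ker_eq_bot.1 h0
    have hall : ∀ (k : ℕ) (u : fixS (g ^ n)), (S ^ k) u = 0 → u = 0 := by
      intro k
      induction k with
      | zero => intro u h; rwa [pow_zero] at h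
      | succ k ih =>
        intro u h
        rw [pow_succ, Module.End.mul_apply] at h
        exact hinj ((ih _ h).trans (map_zero S).symm)
    have := congrArg Subtype.val (hall m ⟨v, hv⟩ (by rw [hS0]; rfl))
    rw [show v = (0 : Fin 8 → K8) from this, Matrix.mulVec_zero]
  · have := pow_eq_zero_of_ker S hS0 hd h1 hge
    rw [← hpow d ⟨v, hv⟩, this]
    rfl

theorem geomV_eq_mulVec (n : ℕ) (g : ↥L) (v : Fin 8 → K8) :
    geomV n g v = (∑ i ∈ Finset.range n, mat g ^ i) *ᵥ v := by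
  rw [geomV, Matrix.sum_mulVec]
  simp only [mat_pow]

theorem geomV_eight {g : ↥L} (hg : orderOf g = 8) (v : Fin 8 → K8) : geomV 8 g v = 0 := by
  have h8 : g ^ 8 = 1 := hg ▸ pow_orderOf_eq_one g
  have htop : fixS (g ^ 8) = ⊤ := eq_top_iff.2 fun u _ => by
    rw [mem_fixS, h8, mat_one, Matrix.one_mulVec]
  obtain ⟨-, e7, -, e8⟩ := sub_one_pow (mat g)
  have := sub_one_pow_fix g 8 (m := 8) (d := 7) (fun u _ => by
    rw [e8, ← mat_pow, h8, mat_one, Matrix.add_mulVec, Matrix.one_mulVec]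
    funext j; exact CharTwo.add_self_eq_zero (u j))
    (by rw [htop, finrank_top, Module.finrank_fintype_fun_eq_card, Fintype.card_fin]) (by norm_num)
    (v := v) (htop.symm ▸ Submodule.mem_top)
  rw [e7] at this
  rw [geomV_eq_mulVec]
  simpa [Finset.sum_range_succ] using this

theorem geomV_four {g : ↥L} {o : ℕ} (hg : orderOf g = 4 * o) (hfix : Module.finrank K8 (fixS (g ^ 4)) ≤ 4)
    (v : Fin 8 → K8) : geomV (4 * o) g v = 0 := by
  rw [geomV_split]
  have hp : (g ^ 4) ^ o = 1 := by rw [← pow_mul, ← hg, pow_orderOf_eq_one]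
  have hw := geomV_fixed hp v
  obtain ⟨e3, -, e4, -⟩ := sub_one_pow (mat g)
  have := sub_one_pow_fix g 4 (m := 4) (d := 3) (fun u hu => by
    rw [e4, ← mat_pow, Matrix.add_mulVec, Matrix.one_mulVec, mem_fixS.1 hu]
    funext j; exact CharTwo.add_self_eq_zero (u j)) hfix (by norm_num) hw
  rw [e3] at this
  rw [geomV_eq_mulVec]
  simpa [Finset.sum_range_succ] using this

theorem fix_div_three {g : ↥L} (h : 9 ∣ orderOf g) : fixS (g ^ (orderOf g / 9)) = ⊥ := by
  have ho := orderOf_div_pow h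
  have h3 : (g ^ (orderOf g / 9)) ^ 3 ≠ 1 := pow_ne_one_of_lt_orderOf (by norm_num) (by rw [ho]; norm_num)
  have := (three_facts ⟨2, by rw [ho]; rfl⟩).2 (fun e => h3 (by rw [e, one_pow]))
  rwa [if_neg h3] at this

theorem fix_three {g : ↥L} (h : orderOf g = 3) : Module.finrank K8 (fixS g) ≤ 4 := by
  have hg1 : g ≠ 1 := fun e => by simp [e] at h
  have := (three_facts ⟨1, by rw [h, pow_one]⟩).2 hg1
  rwa [if_pos (h ▸ pow_orderOf_eq_one g)] at this

theorem fix_twentyOne {g : ↥L} (h : orderOf g = 21) : fixS g = ⊥ := by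
  have ho3 : orderOf (g ^ 7) = 3 := by
    have := orderOf_div_pow (g := g) (m := 3) (h ▸ by norm_num); rwa [h] at this
  have ho7 : orderOf (g ^ 3) = 7 := by
    have := orderOf_div_pow (g := g) (m := 7) (h ▸ by norm_num); rwa [h] at this
  have hne : g ^ 3 ≠ 1 := fun e => by rw [e, orderOf_one] at ho7; norm_num at ho7
  obtain ⟨-, h2⟩ := (seven_facts ⟨1, by rw [ho7, pow_one]⟩).2 hne
  rcases h2 with hb | hb
  · exact eq_bot_iff.2 ((fixS_le_pow g 3).trans hb.le)
  · have h6 := hb (g ^ 7) (ho3 ▸ pow_orderOf_eq_one _) (Commute.pow_pow_self g 7 3)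
    have := fix_three ho3
    omega

theorem orders_cases {n : ℕ} (h : n ∣ 2 ^ 12 * 3 ^ 4 * 7 ^ 2 * 13) (h8 : ¬ 8 ∣ n) (h9 : ¬ 9 ∣ n)
    (h49 : ¬ 49 ∣ n) (h13 : ¬ 13 ∣ n) : n ∣ 84 := by
  obtain ⟨x, d, hx, hd, rfl⟩ := Nat.dvd_mul.1 h
  obtain ⟨y, c, hy, hc, rfl⟩ := Nat.dvd_mul.1 hx
  obtain ⟨a, b, ha, hb, rfl⟩ := Nat.dvd_mul.1 hy
  obtain ⟨i, -, rfl⟩ := (Nat.dvd_prime_pow Nat.prime_two).1 ha
  obtain ⟨j, -, rfl⟩ := (Nat.dvd_prime_pow Nat.prime_three).1 hb
  obtain ⟨l, -, rfl⟩ := (Nat.dvd_prime_pow (by norm_num : Nat.Prime 7)).1 hc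
  have hd1 : d = 1 := by
    rcases (Nat.dvd_prime (by norm_num : Nat.Prime 13)).1 hd with e | e
    · exact e
    · exact absurd (e ▸ dvd_mul_left d _) h13
  have hi : i ≤ 2 := by
    by_contra hi
    exact h8 ((pow_dvd_pow 2 (by omega : 3 ≤ i)).trans (((dvd_mul_right _ _).trans (dvd_mul_right _ _)).trans (dvd_mul_right _ _)))
  have hj : j ≤ 1 := by
    by_contra hj
    exact h9 ((pow_dvd_pow 3 (by omega : 2 ≤ j)).trans (((dvd_mul_left _ _).trans (dvd_mul_right _ _)).trans (dvd_mul_right _ _)))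
  have hl : l ≤ 1 := by
    by_contra hl
    exact h49 ((pow_dvd_pow 7 (by omega : 2 ≤ l)).trans ((dvd_mul_left _ _).trans (dvd_mul_right _ _)))
  subst hd1
  rw [mul_one, show 84 = 2 ^ 2 * 3 ^ 1 * 7 ^ 1 by norm_num]
  exact mul_dvd_mul (mul_dvd_mul (pow_dvd_pow 2 hi) (pow_dvd_pow 3 hj)) (pow_dvd_pow 7 hl)

theorem small_cases : ∀ n < 85, n ∣ 84 → ¬ 21 ∣ n →
    n ∈ [1, 2, 3, 4, 6, 7, 14] ∨ n = 12 ∨ n = 28 := by decide +kernel

theorem orderOf_word {w : List (Fin 8)} {n : ℕ} (hn : 0 < n) (h : powM (wordL w) n = oneM)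
    (h' : ∀ p, p.Prime → p ∣ n → powM (wordL w) (n / p) ≠ oneM) : orderOf (word w) = n := by
  have key : ∀ k, powM (wordL w) k = oneM ↔ word w ^ k = 1 := fun k => by
    rw [← lmat_word, ← lmat_pow, ← lmat_one, lmat_injective.eq_iff]
  exact orderOf_eq_of_pow_and_pow_div_prime hn ((key n).1 h) fun p hp hd e => h' p hp hd ((key _).2 e)

theorem witness {n : ℕ} (hn : n ∈ [1, 2, 3, 4, 6, 7, 14]) : ∃ h : ↥L, orderOf h = 2 * n := by
  obtain ⟨a8, a4, b12, b6, b4, c28, c14, c4⟩ := w_ok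
  have hP : ∀ p < 29, p.Prime → (p ∣ 8 → p = 2) ∧ (p ∣ 12 → p = 2 ∨ p = 3) ∧
      (p ∣ 28 → p = 2 ∨ p = 7) := by decide +kernel
  have hlt : ∀ {p m : ℕ}, 0 < m → m ≤ 28 → p ∣ m → p < 29 := fun hm hm' hd => by
    have := Nat.le_of_dvd hm hd; omega
  have o8 : orderOf (word Cert.w8) = 8 := orderOf_word (by norm_num) a8 fun p hp hd => by
    rw [(hP p (hlt (by norm_num) (by norm_num) hd) hp).1 hd]; exact a4
  have o12 : orderOf (word Cert.w12) = 12 := orderOf_word (by norm_num) b12 fun p hp hd => by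
    rcases (hP p (hlt (by norm_num) (by norm_num) hd) hp).2.1 hd with rfl | rfl
    exacts [b6, b4]
  have o28 : orderOf (word Cert.w28) = 28 := orderOf_word (by norm_num) c28 fun p hp hd => by
    rcases (hP p (hlt (by norm_num) (by norm_num) hd) hp).2.2 hd with rfl | rfl
    exacts [c14, c4]
  have key : ∀ (g : ↥L) (m : ℕ), m ∣ orderOf g → ∃ h : ↥L, orderOf h = m := fun g m hm =>
    ⟨_, orderOf_div_pow hm⟩
  simp only [List.mem_cons, List.not_mem_nil, or_false] at hn
  rcases hn with rfl | rfl | rfl | rfl | rfl | rfl | rfl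
  · exact key _ _ (by rw [o8]; norm_num)
  · exact key _ _ (by rw [o8]; norm_num)
  · exact key _ _ (by rw [o12]; norm_num)
  · exact key _ _ (by rw [o8])
  · exact key _ _ (by rw [o12])
  · exact key _ _ (by rw [o28]; norm_num)
  · exact key _ _ (by rw [o28])

/-- Either the norm vanishes or twice the order is an order. -/
theorem norm_dichotomy (g : ↥L) :
    (∀ v, geomV (orderOf g) g v = 0) ∨ ∃ h : ↥L, orderOf h = 2 * orderOf g := by
  have hdvd : orderOf g ∣ 2 ^ 12 * 3 ^ 4 * 7 ^ 2 * 13 := card_L ▸ orderOf_dvd_natCard g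
  by_cases h8 : 8 ∣ orderOf g
  · refine Or.inl fun v => ?_
    have ho := orderOf_div_pow h8
    conv_lhs => arg 1; rw [← Nat.div_mul_cancel h8]
    rw [geomV_split, geomV_eight ho]
    simp [geomV]
  by_cases h9 : 9 ∣ orderOf g
  · exact Or.inl (geomV_eq_zero_of_power h9 (fix_div_three h9))
  by_cases h13 : 13 ∣ orderOf g
  · exact Or.inl (geomV_eq_zero_of_power h13 (thirteen_fixS (orderOf_div_pow h13)))
  by_cases h21 : 21 ∣ orderOf g
  · exact Or.inl (geomV_eq_zero_of_power h21 (fix_twentyOne (orderOf_div_pow h21)))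
  have h49 : ¬ 49 ∣ orderOf g := fun h => by
    have ho := orderOf_div_pow h
    have := orderOf_dvd_of_pow_eq_one (seven_facts ⟨2, by rw [ho]; rfl⟩).1
    rw [ho] at this
    norm_num at this
  have h84 := orders_cases hdvd h8 h9 h49 h13
  rcases small_cases _ (Nat.lt_succ_of_le (Nat.le_of_dvd (by norm_num) h84)) h84 h21 with h | h | h
  · exact Or.inr (witness h)
  · left
    have hg : orderOf g = 4 * 3 := h
    have ho : orderOf (g ^ 4) = 3 := by
      have := orderOf_div_pow (g := g) (m := 3) (hg ▸ by norm_num); rwa [hg] at this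
    intro v; rw [hg]
    exact geomV_four hg (fix_three ho) v
  · left
    have hg : orderOf g = 4 * 7 := h
    have ho : orderOf (g ^ 4) = 7 := by
      have := orderOf_div_pow (g := g) (m := 7) (hg ▸ by norm_num); rwa [hg] at this
    intro v; rw [hg]
    exact geomV_four hg ((seven_facts ⟨1, by rw [ho, pow_one]⟩).2
      (fun e => by rw [e, orderOf_one] at ho; norm_num at ho)).1 v

end Cfsg.Agent.IsoD4
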