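import Cfsg.Agent.Lib.IsoD4.Norm
import Cfsg.Agent.Lib.Chev.FieldAutFixed
import Mathlib.GroupTheory.SemidirectProduct

/-!
`V ^ k : 3D4(2)` has the element orders of `3D4(2)`; change of the field with eight elements.
-/

set_option autoImplicit false

namespace Cfsg.Agent.IsoD4

open SzEight (K8)
open Cfsg.Lie Matrix

/-- Copies of the natural module. -/
abbrev Vec (k : ℕ) : Type := Multiplicative (Fin k → Fin 8 → K8)

/-- The linear action of an element on the copies. -/
noncomputable def actEquiv (k : ℕ) (g : ↥L) : MulAut (Vec k) where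
  toFun v := Multiplicative.ofAdd fun j => mat g *ᵥ (Multiplicative.toAdd v j)
  invFun v := Multiplicative.ofAdd fun j => mat g⁻¹ *ᵥ (Multiplicative.toAdd v j)
  left_inv v := by
    refine Multiplicative.toAdd.injective (funext fun j => ?_)
    simp [Matrix.mulVec_mulVec, ← mat_mul, mat_one]
  right_inv v := by
    refine Multiplicative.toAdd.injective (funext fun j => ?_)
    simp [Matrix.mulVec_mulVec, ← mat_mul, mat_one]
  map_mul' v w := by
    refine Multiplicative.toAdd.injective (funext fun j => ?_)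
    simp [Matrix.mulVec_add]

theorem actEquiv_apply (k : ℕ) (g : ↥L) (v : Vec k) (j : Fin k) :
    Multiplicative.toAdd (actEquiv k g v) j = mat g *ᵥ (Multiplicative.toAdd v j) := rfl

/-- The action on the copies. -/
noncomputable def actHom (k : ℕ) : ↥L →* MulAut (Vec k) where
  toFun := actEquiv k
  map_one' := by
    refine MulEquiv.ext fun v => Multiplicative.toAdd.injective (funext fun j => ?_)
    rw [actEquiv_apply, mat_one, Matrix.one_mulVec]; rfl
  map_mul' g h := by
    refine MulEquiv.ext fun v => Multiplicative.toAdd.injective (funext fun j => ?_)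
    rw [actEquiv_apply, mat_mul, ← Matrix.mulVec_mulVec]; rfl

/-- The extension. -/
abbrev Ext (k : ℕ) : Type := Vec k ⋊[actHom k] ↥L

theorem pow_left {k : ℕ} (x : Ext k) (j : Fin k) : ∀ m : ℕ,
    Multiplicative.toAdd (x ^ m).left j = geomV m x.right (Multiplicative.toAdd x.left j) ∧
      (x ^ m).right = x.right ^ m
  | 0 => by simp [geomV]
  | m + 1 => by
    obtain ⟨h1, h2⟩ := pow_left x j m
    refine ⟨?_, by rw [pow_succ', SemidirectProduct.mul_right, h2, pow_succ']⟩
    rw [pow_succ', SemidirectProduct.mul_left, toAdd_mul, Pi.add_apply,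
      show Multiplicative.toAdd (actHom k x.right (x ^ m).left) j =
        mat x.right *ᵥ (Multiplicative.toAdd (x ^ m).left j) from rfl, h1, geomV, geomV,
      Finset.sum_range_succ', Matrix.mulVec_sum, pow_zero, mat_one, Matrix.one_mulVec, add_comm]
    congr 1
    refine Finset.sum_congr rfl fun i _ => ?_
    rw [Matrix.mulVec_mulVec, ← mat_mul, ← pow_succ']

theorem orderOf_ext {k : ℕ} (x : Ext k) : ∃ h : ↥L, orderOf h = orderOf x := by
  set n := orderOf x.right with hn
  have hdvd : n ∣ orderOf x := orderOf_map_dvd SemidirectProduct.rightHom x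
  have hr : (x ^ n).right = 1 := by
    rcases Nat.eq_zero_or_pos k with rfl | hk
    · have : x ^ n = SemidirectProduct.inr (x ^ n).right := by
        ext : 1
        · exact Subsingleton.elim _ _
        · rfl
      rw [show (x ^ n).right = SemidirectProduct.rightHom (x ^ n) from rfl, map_pow]
      exact pow_orderOf_eq_one _
    · rw [(pow_left x ⟨0, hk⟩ n).2, hn, pow_orderOf_eq_one]
  by_cases hx : x ^ n = 1
  · exact ⟨x.right, Nat.dvd_antisymm hdvd (orderOf_dvd_of_pow_eq_one hx)⟩
  have hne : (x ^ n).left ≠ 1 := fun e => hx (SemidirectProduct.ext e hr)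
  rcases norm_dichotomy x.right with h | ⟨h, hh⟩
  · exfalso
    refine hne (Multiplicative.toAdd.injective (funext fun j => ?_))
    rw [(pow_left x j n).1]
    exact h _
  refine ⟨h, ?_⟩
  rw [hh]
  have h2 : (x ^ n) * (x ^ n) = 1 := by
    have hxn : x ^ n = SemidirectProduct.inl (x ^ n).left := SemidirectProduct.ext rfl hr
    rw [hxn, ← map_mul]
    refine (congrArg _ ?_).trans (map_one _)
    refine Multiplicative.toAdd.injective (funext fun j => funext fun i => ?_)
    rw [toAdd_mul, toAdd_one]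
    exact CharTwo.add_self_eq_zero _
  have hdvd2 : orderOf x ∣ 2 * n := orderOf_dvd_of_pow_eq_one (by rw [two_mul, pow_add, h2])
  obtain ⟨c, hc⟩ := hdvd
  have hnpos : 0 < n := orderOf_pos _
  rw [hc, mul_comm 2 n] at hdvd2
  rcases (Nat.dvd_prime Nat.prime_two).1 (Nat.dvd_of_mul_dvd_mul_left hnpos hdvd2) with rfl | rfl
  · exfalso
    rw [mul_one] at hc
    exact hx (hc ▸ pow_orderOf_eq_one x)
  · rw [hc, mul_comm]

theorem range_orderOf_ext (k : ℕ) :
    Set.range (orderOf : Ext k → ℕ) = Set.range (orderOf : ↥L → ℕ) := by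
  refine Set.Subset.antisymm ?_ ?_
  · rintro _ ⟨x, rfl⟩
    obtain ⟨h, hh⟩ := orderOf_ext x
    exact ⟨h, hh⟩
  · rintro _ ⟨g, rfl⟩
    exact ⟨SemidirectProduct.inr g, orderOf_injective _ SemidirectProduct.inr_injective g⟩

theorem card_gt (N : ℕ) : N < Nat.card (Ext (N + 1)) := by
  rw [SemidirectProduct.card, card_L, Nat.card_congr Multiplicative.toAdd, Nat.card_fun, Nat.card_fun,
    Nat.card_eq_fintype_card (α := K8), card_K8', Nat.card_eq_fintype_card, Fintype.card_fin,
    Nat.card_eq_fintype_card, Fintype.card_fin]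
  have h1 : N + 1 < ((2 ^ 3) ^ 8) ^ (N + 1) := Nat.lt_pow_self (by norm_num)
  have h2 := Nat.le_mul_of_pos_right (((2 ^ 3) ^ 8) ^ (N + 1))
    (show 0 < 2 ^ 12 * 3 ^ 4 * 7 ^ 2 * 13 by norm_num)
  omega

section transport

variable {A B : Type*} [Field A] [Field B]

/-- The entrywise isomorphism of the groups of invertible matrices. -/
noncomputable def glEquiv (e : A ≃+* B) : GL chevD4.Idx A ≃* GL chevD4.Idx B :=
  Units.mapEquiv (e.mapMatrix : Matrix chevD4.Idx chevD4.Idx A ≃+* _).toMulEquiv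

theorem glEquiv_twisted_le (e : A ≃+* B) (q : ℕ) :
    (twistedD4 A q).map (glEquiv e).toMonoidHom ≤ twistedD4 B q := by
  rw [twistedD4, ChevalleyDatum.genSubgroup, MonoidHom.map_closure, Subgroup.closure_le]
  rintro _ ⟨g, ⟨w, hw, hg⟩, rfl⟩
  refine Subgroup.subset_closure ⟨w.map fun p => (p.1, e p.2), ?_, ?_⟩
  · rcases hw with ⟨t, ht, r, hr, rfl⟩ | ⟨t, rs, hrs, rfl⟩
    · exact Or.inl ⟨e t, by rw [← map_pow, ht], r, hr, rfl⟩
    · exact Or.inr ⟨e t, rs, hrs, by simp [map_pow]⟩
  · show (g : Matrix chevD4.Idx chevD4.Idx A).map e = _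
    rw [hg]
    clear hg hw
    induction w with
    | nil => simp [ChevalleyDatum.wordMat]
    | cons p w ih =>
      simp only [ChevalleyDatum.wordMat, List.map_cons, List.prod_cons] at ih ⊢
      rw [Matrix.map_mul, ih]
      congr 1
      exact Chev.BNSetup.x_map e.toRingHom p.1 p.2

end transport

theorem isospectral {K : Type*} [Field K] [Fintype K] (hK : Fintype.card K = 8) (N : ℕ) :
    ∃ (H : Type) (_ : Group H) (_ : Fintype H), N < Fintype.card H ∧
      Set.range (orderOf : H → ℕ) = Set.range (orderOf : twistedD4 K 2 → ℕ) := by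
  have hcard := card_gt N
  haveI : Finite (Ext (N + 1)) := Nat.finite_of_card_ne_zero (by omega)
  refine ⟨Ext (N + 1), inferInstance, Fintype.ofFinite _, ?_, ?_⟩
  · exact lt_of_lt_of_eq hcard (@Nat.card_eq_fintype_card _ (Fintype.ofFinite _))
  have e : K8 ≃+* K := FiniteField.ringEquivOfCardEq (by rw [card_K8', hK]; rfl)
  rw [range_orderOf_ext]
  refine Eq.trans (b := Set.range (orderOf : ↥(twistedD4 K8 2) → ℕ)) ?_ (Set.Subset.antisymm ?_ ?_)
  · exact (Set.ext fun n => ⟨fun ⟨g, hg⟩ => ⟨equivTwisted g, (equivTwisted.orderOf_eq g).trans hg⟩,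
      fun ⟨g, hg⟩ => ⟨equivTwisted.symm g, (equivTwisted.symm.orderOf_eq g).trans hg⟩⟩)
  · rintro _ ⟨g, rfl⟩
    have h := glEquiv_twisted_le e 2 (Subgroup.mem_map_of_mem _ g.2)
    exact ⟨⟨_, h⟩, by rw [← Subgroup.orderOf_coe, ← Subgroup.orderOf_coe]; exact (glEquiv e).orderOf_eq _⟩
  · rintro _ ⟨g, rfl⟩
    have h := glEquiv_twisted_le e.symm 2 (Subgroup.mem_map_of_mem _ g.2)
    exact ⟨⟨_, h⟩, by rw [← Subgroup.orderOf_coe, ← Subgroup.orderOf_coe]; exact (glEquiv e.symm).orderOf_eq _⟩

end Cfsg.Agent.IsoD4
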